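import Mathlib
import Groth.Prelude.Def_W4c6modpairsegaMP
import Groth.Agent.BlowUpLib.Cartier
import Groth.Agent.ModPairFrac.Basic

/-!
Coproducts of modulus pairs.
-/

set_option autoImplicit false
set_option linter.style.haveILetI false

universe u v

open CategoryTheory CategoryTheory.Limits AlgebraicGeometry TopologicalSpace ModPair

namespace Groth.Agent.ModPairCoprod

variable {X Y : Scheme.{u}}

theorem le_of_cover {I J : Y.IdealSheafData} (𝒰 : Y.OpenCover)
    (h : ∀ i, I.comap (𝒰.f i) ≤ J.comap (𝒰.f i)) : I ≤ J := by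
  choose V hV hy using fun (i : 𝒰.I₀) (y : 𝒰.X i) =>
    (Opens.isBasis_iff_nbhd.mp (𝒰.X i).isBasis_affineOpens) (Opens.mem_top y)
  let W : (Σ i, 𝒰.X i) → Y.affineOpens := fun p =>
    ⟨(𝒰.f p.1) ''ᵁ V p.1 p.2, (hV p.1 p.2).image_of_isOpenImmersion _⟩
  refine Scheme.IdealSheafData.le_of_iSup_eq_top W ?_ fun p => ?_
  · rw [eq_top_iff]
    intro y _
    obtain ⟨i, z, rfl⟩ := 𝒰.exists_eq y
    exact Opens.mem_iSup.mpr ⟨⟨i, z⟩, ⟨z, (hy i z).1, rfl⟩⟩
  · have h1 := h p.1 ⟨V p.1 p.2, hV p.1 p.2⟩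
    rw [Scheme.IdealSheafData.ideal_comap_of_isOpenImmersion,
      Scheme.IdealSheafData.ideal_comap_of_isOpenImmersion] at h1
    exact (Ideal.comap_le_comap_iff_of_surjective _
      (ConcreteCategory.bijective_of_isIso ((𝒰.f p.1).appIso (V p.1 p.2)).inv).2 _ _).mp h1

theorem comap_map_of_clopen (I : X.IdealSheafData) (f : X ⟶ Y) [IsOpenImmersion f]
    [IsClosedImmersion f] : (I.map f).comap f = I := by
  have hp : IsPullback I.subschemeι (𝟙 I.subscheme) f (I.subschemeι ≫ f) :=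
    ⟨⟨by simp⟩, ⟨PullbackCone.IsLimit.mk _ (fun s => s.snd) (fun s => by
      rw [← cancel_mono f, Category.assoc]; exact s.condition.symm) (fun s => Category.comp_id _)
      (fun s m _ h2 => by simpa using h2)⟩⟩
  rw [Scheme.IdealSheafData.map, ← Scheme.IdealSheafData.ker_fst_of_isClosedImmersion,
    ← hp.isoPullback_inv_fst, Scheme.Hom.ker_comp_of_isIso, Scheme.IdealSheafData.ker_subschemeι]

theorem cartier_of_cover {K : Y.IdealSheafData} (𝒰 : Y.OpenCover)
    (h : ∀ i, BlowUp.IsEffCartierIdeal (K.comap (𝒰.f i))) : BlowUp.IsEffCartierIdeal K := by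
  intro y
  obtain ⟨i, z, rfl⟩ := 𝒰.exists_eq y
  obtain ⟨U, hzU, f, hf, hK⟩ := h i z
  refine ⟨⟨(𝒰.f i) ''ᵁ U.1, U.2.image_of_isOpenImmersion _⟩, ⟨z, hzU, rfl⟩, ?_⟩
  rw [Scheme.IdealSheafData.ideal_comap_of_isOpenImmersion] at hK
  let e := ((𝒰.f i).appIso U.1).symm.commRingCatIsoToRingEquiv
  have hb : Function.Bijective ((𝒰.f i).appIso U.1).inv.hom := e.bijective
  refine ⟨e f, ?_, ?_⟩
  · rw [mem_nonZeroDivisors_iff_right]
    intro x hx
    obtain ⟨x, rfl⟩ := e.surjective x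
    rw [← map_mul, map_eq_zero_iff _ e.injective] at hx
    rw [(mem_nonZeroDivisors_iff_right.mp hf) x hx, map_zero]
  · refine (Ideal.map_comap_of_surjective _ hb.2 _).symm.trans ?_
    refine (congrArg (Ideal.map ((𝒰.f i).appIso U.1).inv.hom) hK).trans ?_
    rw [Ideal.map_span, Set.image_singleton]
    rfl

section sigma

variable {σ : Type v} [Small.{u} σ] (X : σ → Scheme.{u})

theorem isClosedImmersion_sigmaι (i : σ) : IsClosedImmersion (Sigma.ι X i) := by
  refine IsClosedImmersion.of_isPreimmersion _ ?_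
  have h : Set.range (Sigma.ι X i) =
      (⋃ (j : σ) (_ : j ≠ i), Set.range (Sigma.ι X j))ᶜ := by
    ext y
    constructor
    · rintro ⟨a, rfl⟩ hy
      obtain ⟨j, hj, b, hb⟩ := Set.mem_iUnion₂.mp hy
      obtain ⟨rfl⟩ := (sigmaι_eq_iff X _ _ _ _).mp hb
      exact hj rfl
    · intro hy
      obtain ⟨j, b, rfl⟩ := (sigmaOpenCover X).exists_eq y
      by_cases hj : j = i
      · subst hj; exact ⟨b, rfl⟩
      · have hm : Sigma.ι X j b ∈ ⋃ (j : σ) (_ : j ≠ i), Set.range (Sigma.ι X j) :=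
          Set.mem_iUnion₂.mpr ⟨j, hj, b, rfl⟩
        exact absurd hm hy
  rw [h]
  exact (isOpen_biUnion fun j _ => (Sigma.ι X j).isOpenEmbedding.isOpen_range).isClosed_compl

theorem exists_witness (I : ∀ i, (X i).IdealSheafData) (i : σ) :
    ∃ J : (∐ X).IdealSheafData, J.comap (Sigma.ι X i) = I i ∧
      ∀ j, J.comap (Sigma.ι X j) ≤ I j := by
  haveI := isClosedImmersion_sigmaι X i
  let U : (∐ X).Opens := ⟨(Set.range (Sigma.ι X i))ᶜ,
    (Sigma.ι X i).isClosedEmbedding.isClosed_range.isOpen_compl⟩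
  haveI : IsClosedImmersion U.ι := by
    refine IsClosedImmersion.of_isPreimmersion _ ?_
    rw [Scheme.Opens.range_ι]
    exact (Sigma.ι X i).isOpenEmbedding.isOpen_range.isClosed_compl
  refine ⟨(I i).map (Sigma.ι X i) * U.ι.ker, ?_, fun j => ?_⟩
  · have htop : U.ι.ker.comap (Sigma.ι X i) = ⊤ := by
      refine BlowUpLib.comap_eq_top _ _ fun x hx => ?_
      rw [← SetLike.mem_coe, Scheme.Hom.support_ker, (U.ι.isClosedEmbedding.isClosed_range).closure_eq,
        Scheme.Opens.range_ι] at hx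
      exact hx ⟨x, rfl⟩
    rw [BlowUpLib.comap_mul, comap_map_of_clopen, htop]
    exact le_antisymm (Scheme.IdealSheafData.le_def.mpr fun V => by simp) (Scheme.IdealSheafData.le_def.mpr fun V => by simp)
  · rw [BlowUpLib.comap_mul]
    by_cases hj : j = i
    · subst hj
      rw [comap_map_of_clopen]
      exact Scheme.IdealSheafData.le_def.mpr fun V => by simpa using Ideal.mul_le_left
    · have hr : Set.range (Sigma.ι X j) ⊆ Set.range U.ι := by
        rw [Scheme.Opens.range_ι]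
        rintro _ ⟨a, rfl⟩ ⟨b, hb⟩
        obtain ⟨rfl⟩ := (sigmaι_eq_iff X _ _ _ _).mp hb
        exact hj rfl
      have hbot : U.ι.ker.comap (Sigma.ι X j) = ⊥ := by
        rw [← IsOpenImmersion.lift_fac U.ι (Sigma.ι X j) hr, Scheme.IdealSheafData.comap_comp,
          ← Scheme.IdealSheafData.map_bot, le_bot_iff.mp (Scheme.IdealSheafData.comap_map_le (I := ⊥) (f := U.ι)),
          Scheme.IdealSheafData.comap_bot]
      rw [hbot]
      exact le_trans (Scheme.IdealSheafData.le_def.mpr fun V => by simp) bot_le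

end sigma

section pairs

variable {σ : Type v} [Small.{u} σ] (P : σ → Pair.{u})

/-- The modulus of a disjoint union. -/
noncomputable def coprodMod : (∐ fun i => (P i).total).IdealSheafData :=
  sSup {J | ∀ i, J.comap (Sigma.ι (fun i => (P i).total) i) ≤ (P i).mod}

theorem coprodMod_comap (i : σ) :
    (coprodMod P).comap (Sigma.ι (fun i => (P i).total) i) = (P i).mod := by
  refine le_antisymm ?_ ?_
  · rw [← Scheme.IdealSheafData.le_map_iff_comap_le]
    exact sSup_le fun J hJ => Scheme.IdealSheafData.le_map_iff_comap_le.mpr (hJ i)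
  · obtain ⟨J, h1, h2⟩ := exists_witness (fun i => (P i).total) (fun i => (P i).mod) i
    rw [← h1]
    exact Scheme.IdealSheafData.comap_mono _ (le_sSup h2)

theorem coprodMod_cartier : BlowUp.IsEffCartierIdeal (coprodMod P) :=
  cartier_of_cover (sigmaOpenCover fun i => (P i).total) fun (i : σ) => by
    show BlowUp.IsEffCartierIdeal ((coprodMod P).comap (Sigma.ι (fun i => (P i).total) i))
    rw [coprodMod_comap]
    exact (P i).isEffCartier

/-- The disjoint union of modulus pairs. -/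
noncomputable def coprodPair : Pair.{u} := ⟨_, coprodMod P, coprodMod_cartier P⟩

/-- The coproduct cofan. -/
noncomputable def cofan : Cofan P :=
  Cofan.mk (coprodPair P) fun i =>
    ⟨Sigma.ι (fun i => (P i).total) i, le_of_eq (coprodMod_comap P i).symm⟩

/-- The cofan is a coproduct. -/
noncomputable def isColimitCofan : IsColimit (cofan P) :=
  Cofan.IsColimit.mk _ (fun s => ⟨Sigma.desc fun i => (s.inj i).hom,
      le_of_cover (sigmaOpenCover fun i => (P i).total) fun (i : σ) => by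
        show (coprodMod P).comap (Sigma.ι (fun i => (P i).total) i) ≤
          ((Scheme.IdealSheafData.comap s.pt.mod (Sigma.desc fun i => (s.inj i).hom)).comap
            (Sigma.ι (fun i => (P i).total) i))
        rw [coprodMod_comap, ← Scheme.IdealSheafData.comap_comp, Sigma.ι_desc]
        exact (s.inj i).cond⟩)
    (fun s i => Pair.Hom.ext (Sigma.ι_desc (fun i => (s.inj i).hom) i))
    (fun s m hm => Pair.Hom.ext (Sigma.hom_ext _ _ fun i => by
      rw [Sigma.ι_desc]; exact congrArg Pair.Hom.hom (hm i)))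

theorem hasCoproduct : HasCoproduct P := ⟨_, isColimitCofan P⟩

theorem hasCoproducts (σ : Type v) [Small.{u} σ] : HasColimitsOfShape (Discrete σ) Pair.{u} := by
  refine ⟨fun F => ?_⟩
  haveI : HasColimit (Discrete.functor (F.obj ∘ Discrete.mk)) := hasCoproduct _
  exact hasColimit_of_iso Discrete.natIsoFunctor

/-- The image cofan of schemes is a coproduct. -/
noncomputable def isColimitMap :
    IsColimit (Cofan.mk ((Pair.forget.{u}).obj (cofan P).pt)
      fun i => (Pair.forget.{u}).map ((cofan P).inj i)) :=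
  coproductIsCoproduct _

theorem preservesCoproducts (σ : Type v) [Small.{u} σ] :
    PreservesColimitsOfShape (Discrete σ) Pair.forget.{u} := by
  refine ⟨fun {F} => ?_⟩
  let P := fun i => F.obj ⟨i⟩
  haveI : PreservesColimit (Discrete.functor (F.obj ∘ Discrete.mk)) Pair.forget.{u} :=
    preservesColimit_of_preserves_colimit_cocone (isColimitCofan P)
      ((isColimitMapCoconeCofanMkEquiv Pair.forget.{u} P _).symm (isColimitMap P))
  exact preservesColimit_of_iso_diagram _ (Discrete.natIsoFunctor (F := F)).symm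

theorem minimal_of_isIso {P Q : Pair.{u}} (f : P ⟶ Q) [IsIso f] :
    IsMinimal P.mod Q.mod f.hom := by
  refine le_antisymm f.cond ?_
  have h : f.hom ≫ (inv f).hom = 𝟙 P.total := congrArg Pair.Hom.hom (IsIso.hom_inv_id f)
  calc Q.mod.comap f.hom ≤ (P.mod.comap (inv f).hom).comap f.hom :=
        Scheme.IdealSheafData.comap_mono _ (inv f).cond
    _ = P.mod := by rw [← Scheme.IdealSheafData.comap_comp, h, Scheme.IdealSheafData.comap_id]

theorem inj_iso (F : Discrete σ ⥤ Pair.{u}) (c : Cocone F) (hc : IsColimit c) (j : σ) :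
    (cofan fun i => F.obj ⟨i⟩).inj j ≫ (IsColimit.coconePointsIsoOfNatIso (isColimitCofan fun i => F.obj ⟨i⟩) hc
      (Discrete.natIsoFunctor (F := F)).symm).hom = c.ι.app ⟨j⟩ := by
  refine (IsColimit.comp_coconePointsIsoOfNatIso_hom (isColimitCofan fun i => F.obj ⟨i⟩) hc
    (Discrete.natIsoFunctor (F := F)).symm ⟨j⟩).trans ?_
  simp [Discrete.natIsoFunctor]

theorem legs (F : Discrete σ ⥤ Pair.{u}) (c : Cocone F) (hc : IsColimit c) (j : σ) :
    IsOpenImmersion (c.ι.app ⟨j⟩).hom ∧ IsMinimal (F.obj ⟨j⟩).mod c.pt.mod (c.ι.app ⟨j⟩).hom := by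
  let P := fun i => F.obj ⟨i⟩
  let e := IsColimit.coconePointsIsoOfNatIso (isColimitCofan P) hc (Discrete.natIsoFunctor (F := F)).symm
  have he : (cofan P).inj j ≫ e.hom = c.ι.app ⟨j⟩ := inj_iso F c hc j
  haveI : IsIso e.hom.hom := inferInstanceAs (IsIso ((Pair.forget.{u}).map e.hom))
  constructor
  · rw [← he]
    show IsOpenImmersion ((((cofan P).inj j).hom : (P j).total ⟶ (cofan P).pt.total) ≫ e.hom.hom)
    haveI : IsOpenImmersion ((cofan P).inj j).hom :=
      inferInstanceAs (IsOpenImmersion (Sigma.ι (fun i => (P i).total) j))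
    infer_instance
  · rw [← he]
    show (P j).mod = c.pt.mod.comap ((((cofan P).inj j).hom : (P j).total ⟶ (cofan P).pt.total) ≫ e.hom.hom)
    rw [Scheme.IdealSheafData.comap_comp, ← show (cofan P).pt.mod = _ from minimal_of_isIso e.hom]
    exact (coprodMod_comap P j).symm

theorem exists_leg (F : Discrete σ ⥤ Pair.{u}) (c : Cocone F) (hc : IsColimit c) (y : c.pt.total) :
    ∃ (j : σ) (x : (F.obj ⟨j⟩).total), (c.ι.app ⟨j⟩).hom x = y := by
  let P := fun i => F.obj ⟨i⟩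
  let e := IsColimit.coconePointsIsoOfNatIso (isColimitCofan P) hc (Discrete.natIsoFunctor (F := F)).symm
  haveI : IsIso e.hom.hom := inferInstanceAs (IsIso ((Pair.forget.{u}).map e.hom))
  obtain ⟨z, rfl⟩ := e.hom.hom.surjective y
  obtain ⟨j, x, rfl⟩ := (sigmaOpenCover fun i => (P i).total).exists_eq z
  refine ⟨j, x, ?_⟩
  have he : (cofan P).inj j ≫ e.hom = c.ι.app ⟨j⟩ := inj_iso F c hc j
  rw [← he]
  rfl

theorem leg_disjoint (F : Discrete σ ⥤ Pair.{u}) (c : Cocone F) (hc : IsColimit c) {i j : σ}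
    (x : (F.obj ⟨i⟩).total) (y : (F.obj ⟨j⟩).total) (h : (c.ι.app ⟨i⟩).hom x = (c.ι.app ⟨j⟩).hom y) :
    i = j := by
  let P := fun i => F.obj ⟨i⟩
  let e := IsColimit.coconePointsIsoOfNatIso (isColimitCofan P) hc (Discrete.natIsoFunctor (F := F)).symm
  have he : ∀ j, (cofan P).inj j ≫ e.hom = c.ι.app ⟨j⟩ := inj_iso F c hc
  haveI : IsIso e.hom.hom := inferInstanceAs (IsIso ((Pair.forget.{u}).map e.hom))
  rw [← he i, ← he j] at h
  have h' := e.hom.hom.isOpenEmbedding.injective h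
  obtain ⟨rfl⟩ := (sigmaι_eq_iff (fun i => (P i).total) _ _ _ _).mp h'
  rfl

/-- The cover of a coproduct by its components. -/
noncomputable def legCover (F : Discrete σ ⥤ Pair.{u}) (c : Cocone F) (hc : IsColimit c) :
    c.pt.total.OpenCover :=
  Scheme.Cover.mkOfCovers σ (fun j => (F.obj ⟨j⟩).total) (fun j => (c.ι.app ⟨j⟩).hom)
    (fun y => exists_leg F c hc y) (fun j => (legs F c hc j).1)

theorem admBlowup_coprod (F₁ F₂ : Discrete σ ⥤ Pair.{u}) (c₁ : Cocone F₁) (c₂ : Cocone F₂)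
    (h₁ : IsColimit c₁) (h₂ : IsColimit c₂) (f : F₁ ⟶ F₂) (hf : ∀ j, Pair.admBlowup (f.app j))
    (α : c₁.pt ⟶ c₂.pt) (hα : ∀ j, c₁.ι.app j ≫ α = f.app j ≫ c₂.ι.app j) :
    Pair.admBlowup α := by
  have hsq : ∀ j : σ, (c₁.ι.app ⟨j⟩).hom ≫ α.hom = (f.app ⟨j⟩).hom ≫ (c₂.ι.app ⟨j⟩).hom :=
    fun j => congrArg Pair.Hom.hom (hα ⟨j⟩)
  have hmin : IsMinimal c₁.pt.mod c₂.pt.mod α.hom := by
    refine le_antisymm α.cond (le_of_cover (legCover F₁ c₁ h₁) fun (j : σ) => ?_)
    show (c₂.pt.mod.comap α.hom).comap (c₁.ι.app ⟨j⟩).hom ≤ c₁.pt.mod.comap (c₁.ι.app ⟨j⟩).hom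
    rw [← Scheme.IdealSheafData.comap_comp, hsq, Scheme.IdealSheafData.comap_comp,
      ← (show (F₂.obj ⟨j⟩).mod = _ from (legs F₂ c₂ h₂ j).2), ← (show (F₁.obj ⟨j⟩).mod = _ from (hf ⟨j⟩).1),
      ← (show (F₁.obj ⟨j⟩).mod = _ from (legs F₁ c₁ h₁ j).2)]
  have hpb : ∀ j : σ, IsPullback (f.app ⟨j⟩).hom (c₁.ι.app ⟨j⟩).hom (c₂.ι.app ⟨j⟩).hom α.hom := by
    intro j
    haveI := (legs F₁ c₁ h₁ j).1
    haveI := (legs F₂ c₂ h₂ j).1
    refine IsOpenImmersion.isPullback _ _ _ _ (hsq j) ?_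
    ext x
    constructor
    · rintro ⟨y, hy⟩
      obtain ⟨i, z, rfl⟩ := exists_leg F₁ c₁ h₁ x
      have hi : i = j := by
        refine leg_disjoint F₂ c₂ h₂ ((f.app ⟨i⟩).hom z) y ?_
        rw [hy, ← Scheme.Hom.comp_apply, ← hsq i, Scheme.Hom.comp_apply]
      subst hi
      exact ⟨z, rfl⟩
    · rintro ⟨z, rfl⟩
      exact ⟨(f.app ⟨j⟩).hom z, by rw [← Scheme.Hom.comp_apply, ← hsq j, Scheme.Hom.comp_apply]⟩
  refine ⟨hmin, ?_, ?_⟩
  · refine IsZariskiLocalAtTarget.of_forall_exists_morphismRestrict (P := @IsProper) (f := α.hom) fun x => ?_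
    obtain ⟨j, y, hy⟩ := exists_leg F₂ c₂ h₂ x
    haveI := (legs F₂ c₂ h₂ j).1
    refine ⟨(c₂.ι.app ⟨j⟩).hom.opensRange, ⟨y, hy⟩, ?_⟩
    rw [(MorphismProperty.arrow_mk_iso_iff @IsProper (morphismRestrictOpensRange α.hom (c₂.ι.app ⟨j⟩).hom))]
    exact (MorphismProperty.arrow_mk_iso_iff @IsProper
      (Arrow.isoMk ((hpb j).flip.isoPullback) (Iso.refl _) (by simp) :
        Arrow.mk (f.app ⟨j⟩).hom ≅ Arrow.mk (pullback.snd α.hom (c₂.ι.app ⟨j⟩).hom))).mp (hf ⟨j⟩).2.1
  · refine IsZariskiLocalAtTarget.of_forall_exists_morphismRestrict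
      (P := MorphismProperty.isomorphisms Scheme.{u}) (f := α.hom ∣_ interior c₂.pt.mod) fun y => ?_
    obtain ⟨j, z, hz⟩ := exists_leg F₂ c₂ h₂ ((interior c₂.pt.mod).ι y)
    haveI := (legs F₂ c₂ h₂ j).1
    let W := interior (F₂.obj ⟨j⟩).mod
    have hW : W = (c₂.ι.app ⟨j⟩).hom ⁻¹ᵁ interior c₂.pt.mod :=
      Groth.Agent.ModPairFrac.preimage_interior (legs F₂ c₂ h₂ j).2
    let ℓ := W.ι ≫ (c₂.ι.app ⟨j⟩).hom
    have hle : ℓ.opensRange ≤ interior c₂.pt.mod := by
      rintro _ ⟨w, rfl⟩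
      have hw : W.ι w ∈ W := w.2
      exact (le_of_eq hW hw :)
    refine ⟨(interior c₂.pt.mod).ι ⁻¹ᵁ ℓ.opensRange, ?_, ?_⟩
    · have hzW : z ∈ W := by
        rw [hW]
        show (c₂.ι.app ⟨j⟩).hom z ∈ interior c₂.pt.mod
        rw [hz]; exact y.2
      exact ⟨⟨z, hzW⟩, hz⟩
    · rw [MorphismProperty.isomorphisms.iff]
      have h0 : IsIso (α.hom ∣_ ℓ.opensRange) := by
        have hp := (isPullback_morphismRestrict (f.app ⟨j⟩).hom W).paste_vert (hpb j)
        have hi : IsIso ((f.app ⟨j⟩).hom ∣_ W) := (hf ⟨j⟩).2.2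
        refine (MorphismProperty.arrow_mk_iso_iff (MorphismProperty.isomorphisms Scheme.{u})
          (morphismRestrictOpensRange α.hom ℓ)).mpr ?_
        exact (MorphismProperty.arrow_mk_iso_iff (MorphismProperty.isomorphisms Scheme.{u})
          (Arrow.isoMk hp.flip.isoPullback (Iso.refl _) (by simp [ℓ]) :
            Arrow.mk ((f.app ⟨j⟩).hom ∣_ W) ≅ Arrow.mk (pullback.snd α.hom ℓ))).mp hi
      refine (MorphismProperty.arrow_mk_iso_iff (MorphismProperty.isomorphisms Scheme.{u})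
        (morphismRestrictRestrict α.hom (interior c₂.pt.mod) _ ≪≫ morphismRestrictEq α.hom ?_)).mpr h0
      rw [Scheme.Hom.image_preimage_eq_opensRange_inf, Scheme.Opens.opensRange_ι]
      exact inf_eq_right.mpr hle

end pairs

end Groth.Agent.ModPairCoprod
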